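import Cfsg.Agent.Lib.Sporadic.J3LineTree

/-! Generated data for the Rudvalis group in `GL(28,2)`. -/

set_option autoImplicit false
set_option maxRecDepth 20000

namespace CfsgLib.Sporadic.RuMod.Data
open CfsgLib.Sporadic.J3 (T4)

noncomputable def vMat : ℕ := 0xcaed5e8dffdd5e69be6567b0a4f6ab1bea82b2dc26380fc98c7e93e66e72500877bcacf76061c9b46236bda1242871d86a4707f02111c1fc4eaf2cac970dcc25214f603b7456ec8724452d8e1237e5c5e74fc60024fec6e5eba494fc6003a42c14ff
noncomputable def vInv : ℕ := 0xb788c0adc448c4691ba364d9a3acb4ef0e026ea84eb7deb2491bdbd2aea70b29a4b4fccf1476270b2d44c471f609b79e00b09fa141fff8f4af38b60478d9aa4de0fa242fbc1c71846eeac6db827c585500c026e6f735838ebe1ea40f78de8b91b35f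
noncomputable def cBits : ℕ := 0x2643e8c
noncomputable def lMat : ℕ := 0x986bd1c1104ae1ac43a518b9dfd4b5622c7a384ac63e5c5cfa46edab90b1e640aa4a4e82ed61cb4533f1849bd7dbdd25992fbf3a13a59741246c98a087446886e598d2ce56279ed89fd20604bf9bb73202d51264864fcd92b6a41da366b860000000
noncomputable def qMat : ℕ := 0x8000000400000020000001000000080000004000000200000010000000800000040000002000000100000008000000400000020000001000000080000004000000200000010000000800000040000002000000100000008000000400000020000000
noncomputable def tSift : List ℕ := [0x10007019303170000, 0x10007039c012f0000]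

end CfsgLib.Sporadic.RuMod.Data
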