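import Cfsg.Agent.Lib.Sporadic.J3LineTree

/-! Generated data for the Rudvalis group in `GL(28,2)`. -/

set_option autoImplicit false
set_option maxRecDepth 20000

namespace CfsgLib.Sporadic.RuMod.Data
open CfsgLib.Sporadic.J3 (T4)

noncomputable def g3Base : ℕ := 0x1000000100000010000000000000100000000000000000000100000010000001000000000000000000000000000100000010000001000000000000000000001000000100000010000000000000000000000000000000000000000010000001
noncomputable def g3Gen : List ℕ := [0xb4addddc38bf7aa8bb7231288cbe52f1d450812b65e80be568b778a837e506d7481b2602a20ffc6e2fcb1386ffc17f708e800a7966a0b41bf1cacf49e1fa54b4fcfc8946d160c238c5043ea47f73d7e9d73925e28932f4ed73814d5074e7dddd84aa, 0x788a4424563129108234a320c1eb02a11f394702058d5cb3f6e5d93ed7d619d6db0258aadae34666a2f2da4358e02b21ff02a20ffe4ec760557e3870e29e3d9f165ce666c2f25d1b4a452c2e27d4c6a82a1cf106da50f1f5270a72b69068db69068e]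
noncomputable def g3Inv : List ℕ := [0xb64abfa239cdfb2b7a57fdf4e7fd69186b6840569c397e6d38b778a84c18d5602bec1dda8dc5ad07e96b3ec9a1b227f65b4333dd6955b5698630bbd0845d1fba03ecbf9a8e6a9cf9e0a15c608650b1c19032195cda79d518d13fc69297919f3aaa4e, 0x788a4424563129108234a320c1eb02a11f394702058d5cb3f6e5d93ed7d619d6db0258aadae34666a2f2da4358e02b21ff02a20ffe4ec760557e3870e29e3d9f165ce666c2f25d1b4a452c2e27d4c6a82a1cf106da50f1f5270a72b69068db69068e]
noncomputable def g3Src : List ℕ := [16]
noncomputable def g3Par0x : T4 := (.leaf 0x18000d000800050004000100000000)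
noncomputable def g3Par : T4 := g3Par0x
noncomputable def g3Edge0x : T4 := (.leaf 0x10007000000000000000000020000000000000000000300000000000000000007000000000000000100050000000000000000000600000000000000000001000000000000000100000000000000000000000600000000000000010004000000000000000000000000000000000000000500000000000000000004000000000000000000030000000000000000000200000000000000000001)
noncomputable def g3Edge : T4 := g3Edge0x
noncomputable def g3Srt0x : T4 := (.leaf 0x70005000000060003000200010004)
noncomputable def g3Srt : T4 := g3Srt0x

end CfsgLib.Sporadic.RuMod.Data
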