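import Cfsg.Agent.Lib.Sporadic.J3LineTree

/-! Generated data for the Rudvalis group in `GL(28,2)`. -/

set_option autoImplicit false
set_option maxRecDepth 20000

namespace CfsgLib.Sporadic.RuMod.Data
open CfsgLib.Sporadic.J3 (T4)

noncomputable def g3Rep0x : T4 := (.leaf 0x4c6d4de07757064f6d7557ee5844d8f95feef6fbe40a08009da25df0454d9358841db5af497c91bf045c0c3d310ba03ecbfb5104305fddd217b09c69d9be14227f65bfa510633cafa54cbac04e1ebdfd4e50806c67114db493671d6c8727bff9149d2f11238ff08a3066cf6808fdd28700467d45498d927c3a0786e5d93e5c41ca508067d4be9b607889dc26ec1a68c5448366da8dc5a4cb9c4dc4811efc7059affae8a07e8a6198d6a9c7edeefb6a7a3afc897fbda3737bd87c43506fb2fbb2f0b162f122f8f70dc152516e57a31ff30fbde310e0da889f1cc06be69da25df01ba9e8d5c855b60002000417fe465616d9bb4fcfc84f0c16f93a7a99604ae8f62cbf6617f708ec5e9e860e1c587cffd558ba398eb323885a143b7f764792fa09e71971a1237802a11f36f9c0fa1f5a0a134bf8f22f11238a0ea43bd19353d6e5d93ebaae26144b7893bcb265d0b99c3c87e02bb5df807d0f77ed61c8b439dee159d9179bd04b7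ba0b9c64b24c73a722080cd206e5f83e2954bb282470d9df24bc17489fb0f925567d79b67a0f95e7e04304257d36c886695baeff9f84118f637501000005e8896c09848050f77ed69cfbe08413586ecf72a77af497c9c15ed14aff060e9e299cdc27d941123e1341746b047cabbda8be5fe9c3ca9d22bb1c9b8d53cfc6d61b99d48c247788a4424563129108234a320c1eb02a11f394702058d5cb3f6e5d93ed7d619d6db0258aadae34666a2f2da4358e02b21ff02a20ffe4ec760557e3870e29e3d9f165ce666c2f25d1b4a452c2e27d4c6a82a1cf106da50f1f5270a72b69068db69068eb4addddc38bf7aa8bb7231288cbe52f1d450812b65e80be568b778a837e506d7481b2602a20ffc6e2fcb1386ffc17f708e800a7966a0b41bf1cacf49e1fa54b4fcfc8946d160c238c5043ea47f73d7e9d73925e28932f4ed73814d5074e7dddd84aa8000000400000020000001000000080000004000000200000010000000800000040000002000000100000008000000400000020000001000000080000004000000200000010000000800000040000002000000100000008000000400000020000001)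
noncomputable def g3Rep : T4 := g3Rep0x

end CfsgLib.Sporadic.RuMod.Data
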