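import Cfsg.Agent.Lib.Sporadic.J3LineTree

/-! Generated data for the Rudvalis group in `GL(28,2)`. -/

set_option autoImplicit false
set_option maxRecDepth 20000

namespace CfsgLib.Sporadic.RuMod.Data
open CfsgLib.Sporadic.J3 (T4)

noncomputable def syl3Gen : List ℕ := [0x75631971457353eb0e5c26da82280cb43e9d0f1948d536adcd411e9317e20f13bfaf1705602fbfd6ad4723bd70cbedf6e9d7b6805005486567a682c423136f235c8374b7ba0beb799819b35629b843d307881fa729a4d126ced6538a2b5e96224896, 0xcb60e79f1b3eb37e9618456194d386b4d1ae832aea4c4a9f0bde154ebfa51adcca1d71e2a5431ef6ebe5cb5b877244762896cfdda7c61014567c9b349fdadc29232f9d587f432944af497ace1330bd50fc8a794b5c855b6f9be689136e8638488a17]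
noncomputable def syl3Sift : List ℕ := [0x200f108da, 0x3011203f0]
noncomputable def syl3Par0x : T4 := (.leaf 0x590055004500410038003500340031002d002400210020001d001c00180015001400110010000d0009000800050004000100000000)
noncomputable def syl3Par : T4 := syl3Par0x
noncomputable def syl3Tr0x : T4 := (.leaf 0xf0013000d0012000a001a00080019001a000b00190009000c000700140018000500170018001500170006001600040003001600150014001300100012000e00110002000100110010000f000e000d0000000c000b000a0009000800070000000600050004000300020001)
noncomputable def syl3Tr : T4 := syl3Tr0x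
noncomputable def syl3Srt0x : T4 := (.leaf 0x15000a0006000800180002001600090019000e000c0000000700140001000f00130005001a0010001100030017000b0004000d0012)
noncomputable def syl3Srt : T4 := syl3Srt0x
noncomputable def syl3Wit0x : T4 := (.leaf 0x100050006000600020002000200060006000200020002000200020002000200020002000200020002000200020006000200060000)
noncomputable def syl3Wit : T4 := syl3Wit0x
noncomputable def syl3Central : List (ℕ × List (ℕ × ℕ) × ℕ) := [(0x3fd507566da625ca07c6a076059a46d01e88c836455d4263d5783470cc614c679751c50778a2f4333dd61b5407b2513c5521415fcd6ce6531328004c9654e0e5d0c6d93fd7b7ef4c3d4fb3b5874d4617ba1d906d9fa7d4402a20fffa15090bde3e96, [(0x100030187012f, 0x5c2b9c5b27682a6f9c0fa7faa469498efe244a62d91abb8f20002000355a35c9f9fe8166adbd526b1008c1074207f74ce3079ba784f78681cb29dcfeb8f1419803268457f9be7c2c74dc1d9d212a71e4a8d47bb60f07cda4b41220be4c9519d35ffa)], 1), (0xa0ea43b6f9c0fa99833b389f02d81457353a6a73d24492eed02d70af1e3ae984cc69fac165ce0db7653c9bd11aa9a55f410d4a625141dc02132fd7c55d81ecf2f93efd26dc24d589f2a8069652da25df00f77143518b73795019d07181c1ca33ed84,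 [(0x301f2038b, 0x1c5b14754a92aa69e90cb1a4a015e0b33eb59fc42e2587315e6d6745544c6b0dbf565549fdef087e02bb483259ad5830a01627a7a66096cb0e620bae17e730139def25b55312320ea096f3e155bcada68355af5c99c725bc5e9f011610d3007602bb)], 1)]

end CfsgLib.Sporadic.RuMod.Data
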