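import Cfsg.Agent.Lib.Sporadic.J3LineTree

/-! Generated data for the Rudvalis group in `GL(28,2)`. -/

set_option autoImplicit false
set_option maxRecDepth 20000

namespace CfsgLib.Sporadic.RuMod.Data
open CfsgLib.Sporadic.J3 (T4)

noncomputable def t2Base : ℕ := 0x1000000100000010000000000000100000000000000000000100000010000001000000000000000000000000000100000010000001000000000000000000001000000100000010000000000000000000000000000000000000000010000001
noncomputable def t2Gen : List ℕ := [0xe310e0d9f916d0665bf929272a764c6d4de8a377dffd9670bda25df03517ff4cbf3aad4333dd6544c6b0a3da9370000200eab6cdf33b78abe97a4f700b21fb00040001216aea999123c3a092fd57834702149d54c476c12077e90c080d846c3e1b16, 0x69186b6dc4066ea9b351e43f28c1b4adddde342075464c6a18b778a8a94e93318ef09a4f0c16f929caa60dcabd2fae8a07bcb265df1caeb48f00220777da605448366782a479f6d571f96fa90b087407fc634dd512c099f8149d0e980dfb653e1ce6]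
noncomputable def t2Inv : List ℕ := [0xe310e0d9f916d0665bf929272a764c6d4de8a377dffd9670bda25df03517ff4cbf3aad4333dd6544c6b0a3da9370000200eab6cdf33b78abe97a4f700b21fb00040001216aea999123c3a092fd57834702149d54c476c12077e90c080d846c3e1b16, 0x52f1d45552f027937304b6d3bfe2b64abfa0e5e3c27b449708b778a8d0b8cfb31d4589fb51043ef7303d9b8f1cf9f165cec4813e738e69261eff048df2814d02b21ffa49d6fc111524c48aada91864d5ab1860d944812c1b710e0cdde03bdc3934b9]
noncomputable def t2Src : List ℕ := [0x200008]
noncomputable def t2Par0x : T4 := (.leaf 0x5000100000000)
noncomputable def t2Par : T4 := t2Par0x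
noncomputable def t2Edge0x : T4 := (.leaf 0x1000000000000000000010003000000000000000100010000000000000001000200000000000000000003000000000000000000000000000000000000000200000000000000000001)
noncomputable def t2Edge : T4 := t2Edge0x
noncomputable def t2Srt0x : T4 := (.leaf 0x200010003)
noncomputable def t2Srt : T4 := t2Srt0x

end CfsgLib.Sporadic.RuMod.Data
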