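import Cfsg.Agent.Lib.Sporadic.J3LineTree

/-! Generated data for the Rudvalis group in `GL(28,2)`. -/

set_option autoImplicit false
set_option maxRecDepth 20000

namespace CfsgLib.Sporadic.RuMod.Data
open CfsgLib.Sporadic.J3 (T4)

noncomputable def t2Rep0x : T4 := (.leaf 0x788a4424563129108234a320c1eb02a11f394702058d5cb3f6e5d93ed7d619d6db0258aadae34666a2f2da4358e02b21ff02a20ffe4ec760557e3870e29e3d9f165ce666c2f25d1b4a452c2e27d4c6a82a1cf106da50f1f5270a72b69068db69068e69186b6dc4066ea9b351e43f28c1b4adddde342075464c6a18b778a8a94e93318ef09a4f0c16f929caa60dcabd2fae8a07bcb265df1caeb48f00220777da605448366782a479f6d571f96fa90b087407fc634dd512c099f8149d0e980dfb653e1ce6e310e0d9f916d0665bf929272a764c6d4de8a377dffd9670bda25df03517ff4cbf3aad4333dd6544c6b0a3da9370000200eab6cdf33b78abe97a4f700b21fb00040001216aea999123c3a092fd57834702149d54c476c12077e90c080d846c3e1b168000000400000020000001000000080000004000000200000010000000800000040000002000000100000008000000400000020000001000000080000004000000200000010000000800000040000002000000100000008000000400000020000001)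
noncomputable def t2Rep : T4 := t2Rep0x

end CfsgLib.Sporadic.RuMod.Data
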