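import Cfsg.Agent.Lib.Sporadic.J3LineTree

/-! Generated data for the Rudvalis group in `GL(28,2)`. -/

set_option autoImplicit false
set_option maxRecDepth 20000

namespace CfsgLib.Sporadic.RuMod.Data
open CfsgLib.Sporadic.J3 (T4)

noncomputable def t3Rep0x : T4 := (.leaf 0xd8f95fedd0f9980ee6b283e2135e22f8f706253fd8477cd61da25df0f50c3e18eba237800a79609c2d182e895cfc27d9418993f80ad9e566468aaf9c1edcefcf72a775255b31e2a543114df8880ef8e5f9d0a95942d08a846431621ae5e1204969168000000400000020000001000000080000004000000200000010000000800000040000002000000100000008000000400000020000001000000080000004000000200000010000000800000040000002000000100000008000000400000020000001)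
noncomputable def t3Rep : T4 := t3Rep0x

end CfsgLib.Sporadic.RuMod.Data
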